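import Groth.Agent.Lib.HilbBez17

/-!
# Hilbert function of a complete intersection given by a regular sequence
-/

set_option linter.style.haveILetI false
set_option autoImplicit false

universe u

open MvPolynomial RingTheory.Sequence

namespace Groth.Agent.HilbBez17

open Groth.Agent.CIH28

variable {k : Type u} [Field k]

/-- The Hilbert function is eventually the product of the degrees. -/
theorem hilbert_eq_prod_of_regular {n : ℕ} (f : Fin n → MvPolynomial (Fin (n + 1)) k) (d : Fin n → ℕ) (hd : ∀ i, 1 ≤ d i)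
    (hf : ∀ i, IsWeightedHomogeneous (1 : Fin (n + 1) → ℕ) (f i) (d i))
    (hreg : ∀ (i : Fin n) (p : MvPolynomial (Fin (n + 1)) k), p * f i ∈ Ideal.span (f '' {j | j < i}) →
      p ∈ Ideal.span (f '' {j | j < i})) :
    ∀ m, (∑ i, d i) ≤ m → (Module.finrank k (piece (1 : Fin (n + 1) → ℕ) (Ideal.span (Set.range f)) m) : ℤ) =
      ∏ i, (d i : ℤ) := by
  have hpos : ∀ i, 0 < (1 : Fin (n + 1) → ℕ) i := fun _ => one_pos
  have h1 := hilb_span hpos f d hf hreg
  have h2 := hilb_bot (F := k) (δ := (1 : Fin (n + 1) → ℕ)) hpos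
  simp only [Pi.one_apply, pow_one, Finset.prod_const, Finset.card_univ, Fintype.card_fin] at h2
  let H := hilb (1 : Fin (n + 1) → ℕ) (Ideal.span (Set.range f))
  let G : Polynomial ℤ := ∏ i, ∑ j ∈ Finset.range (d i), Polynomial.X ^ j
  have hG : ∏ i, (1 - PowerSeries.X ^ d i : PowerSeries ℤ) = (1 - PowerSeries.X) ^ n * (G : PowerSeries ℤ) := by
    rw [show (1 - PowerSeries.X : PowerSeries ℤ) ^ n = ∏ _i : Fin n, (1 - PowerSeries.X) by simp,
      show (G : PowerSeries ℤ) = Polynomial.coeToPowerSeries.ringHom G from rfl, map_prod, ← Finset.prod_mul_distrib]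
    refine Finset.prod_congr rfl fun i _ => ?_
    rw [← mul_neg_geom_sum (PowerSeries.X : PowerSeries ℤ)]
    simp
  have h3 : H * (1 - PowerSeries.X) = (G : PowerSeries ℤ) := by
    have hne : ((1 : PowerSeries ℤ) - PowerSeries.X) ^ n ≠ 0 := pow_ne_zero _ fun h => by
      have := congrArg PowerSeries.constantCoeff h
      simp at this
    refine mul_left_cancel₀ hne ?_
    rw [← hG]
    show _ * (hilb _ _ * _) = _
    rw [h1]
    calc _ = hilb (1 : Fin (n + 1) → ℕ) (⊥ : Ideal (MvPolynomial (Fin (n + 1)) k)) * (1 - PowerSeries.X) ^ (n + 1) *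
          ∏ i, (1 - PowerSeries.X ^ d i) := by ring
      _ = _ := by rw [h2, one_mul]
  have h4 : H = (G : PowerSeries ℤ) * PowerSeries.mk 1 := by
    rw [← h3, mul_assoc, mul_comm (1 - PowerSeries.X), PowerSeries.mk_one_mul_one_sub_eq_one, mul_one]
  intro m hm
  have hdeg : G.natDegree ≤ m := (Polynomial.natDegree_prod_le _ _).trans ((Finset.sum_le_sum fun i _ => by
    refine (Polynomial.natDegree_sum_le _ _).trans (Finset.fold_max_le (b := 0) (d i) |>.2 ⟨Nat.zero_le _, fun j hj => ?_⟩)
    simp only [Function.comp_apply, Polynomial.natDegree_X_pow]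
    exact (Finset.mem_range.1 hj).le).trans hm)
  have h5 := congrArg (PowerSeries.coeff m) h4
  simp only [H, hilb, PowerSeries.coeff_mk] at h5
  rw [h5, PowerSeries.coeff_mul, Finset.Nat.sum_antidiagonal_eq_sum_range_succ_mk]
  simp only [PowerSeries.coeff_mk, Pi.one_apply, mul_one, Polynomial.coeff_coe]
  calc ∑ j ∈ Finset.range (m + 1), G.coeff j = G.eval 1 := by
        rw [Polynomial.eval_eq_sum_range' (n := m + 1) (by omega)]
        simp
    _ = _ := by simp [G, Polynomial.eval_prod, Polynomial.eval_finset_sum]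

end Groth.Agent.HilbBez17
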